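import Mathlib.RingTheory.AdicCompletion.AsTensorProduct
import Mathlib.RingTheory.AdicCompletion.Algebra
import Mathlib.RingTheory.RingHom.Flat

/-!
# A limit of the truncations of a Noetherian ring is flat
-/

set_option autoImplicit false

universe u

namespace Groth.Agent.PullFlatStalk

open AdicCompletion

/-- The comparison of the evaluations of a completion. -/
theorem factor_evalₐ {A : Type u} [CommRing A] (I : Ideal A) {m n : ℕ} (h : m ≤ n) (x : AdicCompletion I A) :
    Ideal.Quotient.factorPow I h (evalₐ I n x) = evalₐ I m x := by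
  obtain ⟨a, rfl⟩ := AdicCompletion.mk_surjective I A x
  rw [evalₐ_mk, evalₐ_mk]
  simp only [Ideal.Quotient.factorPow, Ideal.Quotient.factor_mk]
  refine Ideal.Quotient.eq.2 ?_
  have := a.2 h
  rw [SModEq.sub_mem, smul_eq_mul, Ideal.mul_top] at this
  simpa using (I ^ m).neg_mem this

theorem flat_of_limit {A F : Type u} [CommRing A] [IsNoetherianRing A] [CommRing F] (I : Ideal A) (φ : A →+* F)
    {L : ℕ → Type u} [∀ n, CommRing (L n)] (τ : ∀ n, A →+* L n) (t : ∀ n, L (n + 1) →+* L n)
    (p : ∀ n, F →+* L n) (hτs : ∀ n, Function.Surjective (τ n)) (hτk : ∀ n, RingHom.ker (τ n) = I ^ (n + 1))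
    (htτ : ∀ n, (t n).comp (τ (n + 1)) = τ n) (hpφ : ∀ n, (p n).comp φ = τ n)
    (htp : ∀ n x, t n (p (n + 1) x) = p n x) (hinj : ∀ x, (∀ n, p n x = 0) → x = 0)
    (hlim : ∀ z : ∀ n, L n, (∀ n, t n (z (n + 1)) = z n) → ∃ x, ∀ n, p n x = z n) : φ.Flat := by
  let e : ∀ n, A ⧸ I ^ (n + 1) ≃+* L n := fun n =>
    (Ideal.quotEquivOfEq (hτk n).symm).trans (RingHom.quotientKerEquivOfSurjective (hτs n))
  have he : ∀ n a, e n (Ideal.Quotient.mk _ a) = τ n a := fun n a => rfl
  have het : ∀ n (y : A ⧸ I ^ (n + 1 + 1)),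
      e n (Ideal.Quotient.factorPow I (show n + 1 ≤ n + 1 + 1 by omega) y) = t n (e (n + 1) y) := fun n y => by
    obtain ⟨a, rfl⟩ := Ideal.Quotient.mk_surjective y
    rw [he, Ideal.Quotient.factorPow, Ideal.Quotient.factor_mk, he]
    exact (RingHom.congr_fun (htτ n) a).symm
  let g : ∀ n, F →+* A ⧸ I ^ (n + 1) := fun n => (e n).symm.toRingHom.comp (p n)
  have hg : ∀ n x, Ideal.Quotient.factorPow I (show n + 1 ≤ n + 1 + 1 by omega) (g (n + 1) x) = g n x := fun n x => by
    apply (e n).injective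
    rw [het]
    simp [g, htp]
  have hgle : ∀ {m n : ℕ} (h : m ≤ n) x,
      Ideal.Quotient.factorPow I (show m + 1 ≤ n + 1 by omega) (g n x) = g m x := fun {m n} h x => by
    induction n, h using Nat.le_induction with
    | base => obtain ⟨a, ha⟩ := Ideal.Quotient.mk_surjective (g m x); rw [← ha]; rfl
    | succ n hmn ih =>
      rw [← ih, ← hg n x]
      obtain ⟨a, ha⟩ := Ideal.Quotient.mk_surjective (g (n + 1) x)
      rw [← ha]
      rfl
  let f : ∀ n, F →+* A ⧸ I ^ n := fun n => (Ideal.Quotient.factorPow I (show n ≤ n + 1 by omega)).comp (g n)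
  have hf : ∀ {m n : ℕ} (h : m ≤ n), (Ideal.Quotient.factorPow I h).comp (f n) = f m := fun {m n} h =>
    RingHom.ext fun x => by
      simp only [f, RingHom.comp_apply]
      rw [← hgle h x]
      obtain ⟨a, ha⟩ := Ideal.Quotient.mk_surjective (g n x)
      rw [← ha]
      rfl
  let Ψ : F →+* AdicCompletion I A := AdicCompletion.liftRingHom I f hf
  have hev : ∀ n x, evalₐ I (n + 1) (Ψ x) = g n x := fun n x => by
    rw [evalₐ_liftRingHom]
    exact hg n x
  have hΨ : Ψ.comp φ = algebraMap A (AdicCompletion I A) := RingHom.ext fun a => by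
    refine AdicCompletion.ext_evalₐ fun n => ?_
    rw [RingHom.comp_apply, evalₐ_liftRingHom, AlgHom.commutes]
    simp only [f, g, RingHom.comp_apply]
    rw [show p n (φ a) = τ n a from RingHom.congr_fun (hpφ n) a, ← he n a]
    simp
  have hbij : Function.Bijective Ψ := by
    refine ⟨(injective_iff_map_eq_zero _).2 fun x hx => hinj x fun n => ?_, fun y => ?_⟩
    · have := hev n x
      rw [hx, _root_.map_zero] at this
      have := congrArg (e n) this
      simpa [g] using this.symm
    · obtain ⟨x, hx⟩ := hlim (fun n => e n (evalₐ I (n + 1) y)) fun n => by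
        rw [← het, factor_evalₐ]
      refine ⟨x, AdicCompletion.ext_evalₐ fun n => ?_⟩
      rw [evalₐ_liftRingHom]
      simp only [f, g, RingHom.comp_apply, RingEquiv.toRingHom_eq_coe, RingHom.coe_coe, hx, RingEquiv.symm_apply_apply]
      exact factor_evalₐ I (show n ≤ n + 1 by omega) y
  have hflat : (algebraMap A (AdicCompletion I A)).Flat :=
    RingHom.flat_algebraMap_iff.2 (AdicCompletion.flat_of_isNoetherian I)
  have hφ : φ = ((RingEquiv.ofBijective Ψ hbij).symm : AdicCompletion I A →+* F).comp (algebraMap A (AdicCompletion I A)) := by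
    rw [← hΨ]
    ext a
    exact ((RingEquiv.ofBijective Ψ hbij).symm_apply_apply (φ a)).symm
  rw [hφ]
  exact RingHom.Flat.comp hflat (RingHom.Flat.of_bijective (RingEquiv.ofBijective Ψ hbij).symm.bijective)

end Groth.Agent.PullFlatStalk
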