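import Groth.Agent.PullFlatStalk.Space
import Groth.Agent.PullFlatStalk.AdicLimit
import Groth.Prelude.Def_FSch5

/-!
# The completion of a locally Noetherian scheme is flat over it
-/

set_option autoImplicit false
set_option linter.style.haveILetI false

universe u

open CategoryTheory CategoryTheory.Limits Opposite TopologicalSpace AlgebraicGeometry

namespace Groth.Agent.PullFlatStalk

/-- The sections map of a closed subscheme over an affine open. -/
theorem surjective_and_ker {X : Scheme.{u}} (J : X.IdealSheafData) (W : X.affineOpens) (V : J.subscheme.Opens)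
    (e : V ≤ J.subschemeι ⁻¹ᵁ W.1) (hV : J.subschemeι ⁻¹ᵁ W.1 = V) :
    Function.Surjective (J.subschemeι.appLE W.1 V e).hom ∧
      RingHom.ker (J.subschemeι.appLE W.1 V e).hom = J.ideal W := by
  subst hV
  rw [← Scheme.Hom.app_eq_appLE, J.subschemeι_app W, CommRingCat.hom_comp]
  have hb := ConcreteCategory.bijective_of_isIso (J.subschemeObjIso W).inv
  refine ⟨hb.2.comp Ideal.Quotient.mk_surjective, ?_⟩
  rw [RingHom.ker_comp_of_injective _ hb.1]
  exact Ideal.mk_ker

variable (X : Scheme.{u}) (𝓘 : X.IdealSheafData) (h : (FSch.completionAlong X 𝓘).IsFormal)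

/-- The map of structure sheaves of the completion. -/
noncomputable abbrev complSharp :=
  FSch.schSharp (FSch.completionAlong X 𝓘) h (FSch.completionToX X 𝓘) (FSch.completionToX_comm X 𝓘)

/-- The preimage of an open in the completion. -/
noncomputable abbrev preU (W : X.Opens) : ((FSch.completionAlong X 𝓘).X 0).Opens :=
  FSch.completionToX X 𝓘 0 ⁻¹ᵁ W

theorem flat_sections [IsLocallyNoetherian X] (W : X.affineOpens) :
    ((complSharp X 𝓘 h).hom.app (op W.1)).hom.Flat := by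
  let 𝔛 := FSch.completionAlong X 𝓘
  let c := FSch.completionToX X 𝓘
  have hc := FSch.completionToX_comm X 𝓘
  let U := preU X 𝓘 W.1
  haveI : IsNoetherianRing Γ(X, W.1) := IsLocallyNoetherian.component_noetherian W
  let G : Sheaf (Opens.grothendieckTopology (𝔛.X 0)) CommRingCat.{u} ⥤ CommRingCat.{u} :=
    sheafToPresheaf _ _ ⋙ (evaluation _ _).obj (op U)
  have hlimG : IsLimit ((G ⋙ forget CommRingCat.{u}).mapCone (limit.cone (𝔛.levelRing h))) :=
    isLimitOfPreserves _ (limit.isLimit _)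
  refine flat_of_limit (L := fun n => ((𝔛.levelObj h n).obj.obj (op U) : Type u)) (𝓘.ideal W)
    ((complSharp X 𝓘 h).hom.app (op W.1)).hom
    (fun n => ((FSch.schLevel 𝔛 h c hc n).hom.app (op W.1)).hom)
    (fun n => ((𝔛.levelMap h n).hom.app (op U)).hom)
    (fun n => ((𝔛.OshProj h n).hom.app (op U)).hom) (fun n => ?_) (fun n => ?_) (fun n => ?_) (fun n => ?_)
    (fun n x => ?_) (fun x hx => ?_) (fun z hz => ?_)
  · exact (surjective_and_ker (𝓘 ^ (n + 1)) W _ (FSch.lvU_p 𝔛 h c hc n W.1).ge (FSch.lvU_p 𝔛 h c hc n W.1)).1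
  · refine (surjective_and_ker (𝓘 ^ (n + 1)) W _ (FSch.lvU_p 𝔛 h c hc n W.1).ge (FSch.lvU_p 𝔛 h c hc n W.1)).2.trans ?_
    rw [Scheme.IdealSheafData.ideal_pow, Pi.pow_apply]
  · exact congrArg (fun s => (s.hom.app (op W.1)).hom) (FSch.schLevel_levelMap 𝔛 h c hc n)
  · exact congrArg (fun s => (s.hom.app (op W.1)).hom) (FSch.schSharp_proj 𝔛 h c hc n)
  · have hw := limit.w (𝔛.levelRing h) (homOfLE (Nat.le_add_right n 1)).op
    rw [FSch.Sys.levelRing_map_succ] at hw
    exact congrArg (fun s => (s.hom.app (op U)).hom x) hw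
  · have he := hlimG.hom_ext (W := PUnit.{u + 1}) (f := ↾fun _ => x) (f' := ↾fun _ => (0 : (𝔛.Osh h).obj.obj (op U)))
      (fun j => by
        ext u
        exact (hx j.unop).trans (map_zero ((𝔛.OshProj h j.unop).hom.app (op U)).hom).symm)
    exact ConcreteCategory.congr_hom he PUnit.unit
  · let s : Cone (𝔛.levelRing h ⋙ G ⋙ forget CommRingCat.{u}) :=
      { pt := PUnit.{u + 1}
        π := NatTrans.ofOpSequence (fun n => ↾fun _ => z n) (fun n => by
          ext u
          simp only [Functor.comp_map, FSch.Sys.levelRing_map_succ]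
          exact (hz n).symm) }
    refine ⟨hlimG.lift s PUnit.unit, fun n => ?_⟩
    exact ConcreteCategory.congr_hom (hlimG.fac s (op n)) PUnit.unit

/-- The stalk map of the completion. -/
noncomputable abbrev stalkMapC (x : (FSch.completionAlong X 𝓘).X 0) :
    TopCat.Presheaf.stalk (C := CommRingCat.{u}) X.presheaf (FSch.completionToX X 𝓘 0 x) ⟶
      TopCat.Presheaf.stalk (C := CommRingCat.{u}) ((FSch.completionAlong X 𝓘).Osh h).obj x :=
  (TopCat.Presheaf.stalkFunctor CommRingCat.{u} (FSch.completionToX X 𝓘 0 x)).map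
      (show X.presheaf ⟶ (TopCat.Presheaf.pushforward CommRingCat.{u} (FSch.completionToX X 𝓘 0).base).obj
        ((FSch.completionAlong X 𝓘).Osh h).obj from (complSharp X 𝓘 h).hom) ≫
    TopCat.Presheaf.stalkPushforward CommRingCat.{u} (FSch.completionToX X 𝓘 0).base
      ((FSch.completionAlong X 𝓘).Osh h).obj x

theorem stalkMapC_germ (x : (FSch.completionAlong X 𝓘).X 0) (V : X.Opens)
    (hV : FSch.completionToX X 𝓘 0 x ∈ V) (r : Γ(X, V)) :
    (stalkMapC X 𝓘 h x).hom ((X.presheaf.germ V _ hV).hom r) =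
      (TopCat.Presheaf.germ (C := CommRingCat.{u}) ((FSch.completionAlong X 𝓘).Osh h).obj
        (preU X 𝓘 V) x hV).hom (((complSharp X 𝓘 h).hom.app (op V)).hom r) := by
  let α : X.presheaf ⟶ (TopCat.Presheaf.pushforward CommRingCat.{u} (FSch.completionToX X 𝓘 0).base).obj
      ((FSch.completionAlong X 𝓘).Osh h).obj := (complSharp X 𝓘 h).hom
  have e : X.presheaf.germ V _ hV ≫ stalkMapC X 𝓘 h x = α.app (op V) ≫
      TopCat.Presheaf.germ (C := CommRingCat.{u}) ((FSch.completionAlong X 𝓘).Osh h).obj (preU X 𝓘 V) x hV := by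
    rw [stalkMapC, TopCat.Presheaf.stalkFunctor_map_germ_assoc]
    exact congrArg (α.app (op V) ≫ ·) (TopCat.Presheaf.stalkPushforward_germ CommRingCat.{u} _ _ V x hV)
  exact ConcreteCategory.congr_hom e r

theorem flat_stalk [IsLocallyNoetherian X] (x : (FSch.completionAlong X 𝓘).X 0) :
    (stalkMapC X 𝓘 h x).hom.Flat := by
  classical
  let O := ((FSch.completionAlong X 𝓘).Osh h).obj
  let F := TopCat.Presheaf.stalk (C := CommRingCat.{u}) O x
  letI := (stalkMapC X 𝓘 h x).hom.toAlgebra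
  show Module.Flat _ F
  rw [Module.Flat.iff_forall_isTrivialRelation]
  intro l f y hrel
  choose Vf hVf af haf using fun i => TopCat.Presheaf.exists_germ_eq (C := CommRingCat.{u}) X.presheaf (f i)
  choose Uy hUy by' hby using fun i => TopCat.Presheaf.exists_germ_eq (C := CommRingCat.{u}) O (y i)
  let V₀ : X.Opens := ⟨⋂ i, (Vf i : Set X), isOpen_iInter_of_finite fun i => (Vf i).2⟩
  have hx₀ : FSch.completionToX X 𝓘 0 x ∈ V₀ := Set.mem_iInter.2 hVf
  let gV : ∀ i, V₀ ⟶ Vf i := fun i => homOfLE fun z hz => Set.mem_iInter.1 hz i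
  let U₀ : ((FSch.completionAlong X 𝓘).X 0).Opens :=
    preU X 𝓘 V₀ ⊓ ⟨⋂ i, (Uy i : Set ((FSch.completionAlong X 𝓘).X 0)), isOpen_iInter_of_finite fun i => (Uy i).2⟩
  have hxU₀ : x ∈ U₀ := ⟨hx₀, Set.mem_iInter.2 hUy⟩
  let gP : U₀ ⟶ preU X 𝓘 V₀ := homOfLE inf_le_left
  let gU : ∀ i, U₀ ⟶ Uy i := fun i => homOfLE fun z hz => Set.mem_iInter.1 hz.2 i
  let a₀ : Fin l → Γ(X, V₀) := fun i => (X.presheaf.map (gV i).op).hom (af i)
  have ha₀ : ∀ i, (X.presheaf.germ V₀ _ hx₀).hom (a₀ i) = f i := fun i => by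
    rw [← haf i]
    exact TopCat.Presheaf.germ_res_apply (C := CommRingCat.{u}) X.presheaf (gV i) _ hx₀ (af i)
  have he : (TopCat.Presheaf.germ (C := CommRingCat.{u}) O U₀ x hxU₀).hom
      (∑ i, (O.map gP.op).hom (((complSharp X 𝓘 h).hom.app (op V₀)).hom (a₀ i)) * (O.map (gU i).op).hom (by' i)) =
      (TopCat.Presheaf.germ (C := CommRingCat.{u}) O U₀ x hxU₀).hom 0 := by
    rw [map_zero, map_sum, ← hrel]
    refine Finset.sum_congr rfl fun i _ => ?_
    rw [map_mul, TopCat.Presheaf.germ_res_apply (C := CommRingCat.{u}) O gP x hxU₀,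
      TopCat.Presheaf.germ_res_apply (C := CommRingCat.{u}) O (gU i) x hxU₀, Algebra.smul_def, hby i]
    refine congrArg (· * y i) ?_
    refine (stalkMapC_germ X 𝓘 h x V₀ hx₀ (a₀ i)).symm.trans ?_
    rw [ha₀ i]
    rfl
  obtain ⟨U₁, hxU₁, i₁, i₁', hi⟩ := TopCat.Presheaf.germ_eq (C := CommRingCat.{u}) O x hxU₀ hxU₀ _ _ he
  haveI : IsClosedImmersion (FSch.completionToX X 𝓘 0) :=
    inferInstanceAs (IsClosedImmersion (𝓘 ^ (0 + 1)).subschemeι)
  obtain ⟨V', hV', hV'U⟩ := (FSch.completionToX X 𝓘 0).isClosedEmbedding.isEmbedding.isInducing.isOpen_iff.1 U₁.2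
  have hxV' : FSch.completionToX X 𝓘 0 x ∈ V' := by
    have : x ∈ (FSch.completionToX X 𝓘 0) ⁻¹' V' := hV'U.symm ▸ hxU₁
    exact this
  obtain ⟨W, hW, hxW, hWle⟩ := exists_isAffineOpen_mem_and_subset (x := FSch.completionToX X 𝓘 0 x)
    (U := ⟨V', hV'⟩ ⊓ V₀) ⟨hxV', hx₀⟩
  have hWU₁ : preU X 𝓘 W ≤ U₁ := fun z hz => by
    have : z ∈ (FSch.completionToX X 𝓘 0) ⁻¹' V' := (hWle hz).1
    rw [hV'U] at this
    exact this
  let gW : W ⟶ V₀ := homOfLE fun z hz => (hWle hz).2
  let gWU : preU X 𝓘 W ⟶ U₁ := homOfLE hWU₁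
  let φ := ((complSharp X 𝓘 h).hom.app (op W)).hom
  let a : Fin l → Γ(X, W) := fun i => (X.presheaf.map gW.op).hom (a₀ i)
  let b : Fin l → O.obj (op (preU X 𝓘 W)) := fun i => (O.map (gWU ≫ i₁ ≫ gU i).op).hom (by' i)
  letI : Algebra Γ(X, W) (O.obj (op (preU X 𝓘 W))) := φ.toAlgebra
  haveI : Module.Flat Γ(X, W) (O.obj (op (preU X 𝓘 W))) := flat_sections X 𝓘 h ⟨W, hW⟩
  have hrelW : ∑ i, a i • b i = 0 := by
    have h1 := congrArg (O.map gWU.op).hom hi
    change (O.map gWU.op).hom ((O.map i₁.op).hom _) = (O.map gWU.op).hom ((O.map i₁'.op).hom 0) at h1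
    simp only [map_zero, map_sum, map_mul] at h1
    refine Eq.trans (Finset.sum_congr rfl fun i _ => ?_) h1
    rw [Algebra.smul_def]
    refine congrArg₂ (· * ·) ?_ ?_
    · have hn := ConcreteCategory.congr_hom ((complSharp X 𝓘 h).hom.naturality gW.op) (a₀ i)
      refine hn.trans ?_
      rw [← CommRingCat.comp_apply, ← CommRingCat.comp_apply, ← Functor.map_comp, ← Functor.map_comp, ← op_comp,
        ← op_comp]
      exact congrArg (fun g : preU X 𝓘 W ⟶ preU X 𝓘 V₀ => (O.map g.op).hom _) (Subsingleton.elim _ _)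
    · show (O.map (gWU ≫ i₁ ≫ gU i).op).hom (by' i) = _
      simp only [op_comp, Functor.map_comp, CommRingCat.comp_apply]
  obtain ⟨k, A, z, hz₁, hz₂⟩ := Module.Flat.iff_forall_isTrivialRelation.1 inferInstance hrelW
  refine ⟨k, fun i j => (X.presheaf.germ W _ hxW).hom (A i j),
    fun j => (TopCat.Presheaf.germ (C := CommRingCat.{u}) O (preU X 𝓘 W) x hxW).hom (z j), fun i => ?_, fun j => ?_⟩
  · have h2 := congrArg (TopCat.Presheaf.germ (C := CommRingCat.{u}) O (preU X 𝓘 W) x hxW).hom (hz₁ i)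
    rw [map_sum] at h2
    refine Eq.trans ?_ (h2.trans (Finset.sum_congr rfl fun j _ => ?_))
    · rw [← hby i]
      exact (TopCat.Presheaf.germ_res_apply (C := CommRingCat.{u}) O (gWU ≫ i₁ ≫ gU i) x hxW (by' i)).symm
    · rw [Algebra.smul_def, map_mul]
      exact congrArg (· * _) (stalkMapC_germ X 𝓘 h x W hxW (A i j)).symm
  · have h3 := congrArg (X.presheaf.germ W _ hxW).hom (hz₂ j)
    rw [map_sum, map_zero] at h3
    refine Eq.trans (Finset.sum_congr rfl fun i _ => ?_) h3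
    rw [map_mul, ← ha₀ i]
    exact congrArg (· * _) (TopCat.Presheaf.germ_res_apply (C := CommRingCat.{u}) X.presheaf gW _ hxW (a₀ i)).symm

end Groth.Agent.PullFlatStalk
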