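import Mathlib.RingTheory.Flat.Basic
import Mathlib.LinearAlgebra.TensorProduct.Finiteness
import Mathlib.RingTheory.TensorProduct.Basic

/-!
# Trivially vanishing sums in a tensor product with a flat module
-/

set_option autoImplicit false

universe u v w

open scoped TensorProduct

namespace Groth.Agent.PullFlatStalk

/-- Coefficients of a vanishing tensor combination lie in the base change of the relations. -/
theorem exists_relations {R : Type u} {F : Type v} {N : Type w} [CommRing R] [CommRing F] [Algebra R F]
    [Module.Flat R F] [AddCommGroup N] [Module R N] {n : ℕ} (c : Fin n → F) (g : Fin n → N)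
    (h : ∑ i, c i ⊗ₜ[R] g i = 0) :
    ∃ (l : ℕ) (κ : Fin l → Fin n → R) (d : Fin l → F),
      (∀ k, ∑ i, κ k i • g i = 0) ∧ ∀ i, c i = ∑ k, d k * algebraMap R F (κ k i) := by
  classical
  let L : (Fin n → R) →ₗ[R] N := Fintype.linearCombination R g
  have hL : Function.Exact (LinearMap.ker L).subtype L := L.exact_subtype_ker_map
  let t : F ⊗[R] (Fin n → R) := ∑ i, c i ⊗ₜ Pi.single i 1
  have ht : LinearMap.lTensor F L t = 0 := by
    simp only [t, map_sum, LinearMap.lTensor_tmul]
    refine Eq.trans (Finset.sum_congr rfl fun i _ => ?_) h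
    rw [show L (Pi.single i 1) = g i by simp [L, Fintype.linearCombination_apply, Pi.single_apply]]
  obtain ⟨s, hs⟩ := (Module.Flat.lTensor_exact F hL t).1 ht
  obtain ⟨S, hS⟩ := TensorProduct.exists_finset s
  refine ⟨S.card, fun k => ((S.equivFin.symm k).1.2 : Fin n → R), fun k => (S.equivFin.symm k).1.1,
    fun k => ?_, fun i => ?_⟩
  · have := (S.equivFin.symm k).1.2.2
    rw [LinearMap.mem_ker, Fintype.linearCombination_apply] at this
    exact this
  · let ψ : F ⊗[R] (Fin n → R) →ₗ[R] F :=
      (TensorProduct.rid R F).toLinearMap ∘ₗ LinearMap.lTensor F (LinearMap.proj i)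
    have h1 : ψ t = c i := by
      simp [ψ, t, map_sum, Pi.single_apply, ite_smul]
    rw [← h1, ← hs, hS, map_sum, map_sum, ← Finset.sum_coe_sort S]
    refine (Fintype.sum_equiv S.equivFin _ _ fun p => ?_)
    simp [ψ, Algebra.smul_def, mul_comm]

end Groth.Agent.PullFlatStalk
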