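import Groth.Agent.PullFlat.Crit
import Groth.Agent.PullFlat.KFlatPull
import Groth.Agent.LocPres.Space
import Groth.Agent.InjMod.PointStalk
import Groth.Agent.PullFlatStalk.Alg
import Mathlib.Algebra.Homology.ShortComplex.ExactFunctor
import Mathlib.Topology.Sheaves.Stalks

/-!
# Morphisms of ringed spaces with flat stalk maps are flat
-/

set_option autoImplicit false
set_option linter.style.haveILetI false

universe u

open CategoryTheory CategoryTheory.Limits Opposite ModSite TopologicalSpace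
open scoped TensorProduct

namespace Groth.Agent.PullFlatStalk

open Groth.Agent.ModFlat (rs map_val_smul map_val_comp map_ring_comp germ_rs germRing_res)
open Groth.Agent.LocPres (ptIn)
open Groth.Agent.PullFlat

variable {X Y : TopCat.{u}} (φ : X ⟶ Y) {O_X : Sheaf (Opens.grothendieckTopology X) CommRingCat.{u}}
  {O_Y : Sheaf (Opens.grothendieckTopology Y) CommRingCat.{u}}
  (c : O_Y ⟶ ((Opens.map φ).sheafPushforwardContinuous CommRingCat.{u}
    (Opens.grothendieckTopology Y) (Opens.grothendieckTopology X)).obj O_X)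

/-- The morphism of ringed sites. -/
noncomputable abbrev mor : RMor O_X O_Y := RMor.ofFlat (Opens.map φ) c

/-- The point of the target. -/
abbrev pt (x : X) : GrothendieckTopology.Point.{u} (Opens.grothendieckTopology Y) :=
  Opens.pointGrothendieckTopology (φ x)

/-- The stalk map of rings, from the stalk at the point of the site. -/
noncomputable def stalkHom (x : X) :
    stalkRing (pt φ x) O_Y →+* TopCat.Presheaf.stalk (C := CommRingCat.{u}) O_X.obj x :=
  ((InjMod.PointStalk.fiberIso (φ x) O_Y.obj).hom ≫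
    ((TopCat.Presheaf.stalkFunctor CommRingCat.{u} (φ x)).map
      (show O_Y.obj ⟶ (TopCat.Presheaf.pushforward CommRingCat.{u} φ).obj O_X.obj from c.hom)) ≫
    TopCat.Presheaf.stalkPushforward CommRingCat.{u} φ O_X.obj x).hom

theorem stalkHom_germ (x : X) {V : Opens Y} (hV : φ x ∈ V) (r : O_Y.obj.obj (op V)) :
    stalkHom φ c x (germRing (pt φ x) V (ptIn hV) r) =
      (TopCat.Presheaf.germ (C := CommRingCat.{u}) O_X.obj ((Opens.map φ).obj V) x hV).hom
        ((c.hom.app (op V)).hom r) := by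
  let α : O_Y.obj ⟶ (TopCat.Presheaf.pushforward CommRingCat.{u} φ).obj O_X.obj := c.hom
  have h : (pt φ x).toPresheafFiber V (ptIn hV) O_Y.obj ≫ (InjMod.PointStalk.fiberIso (φ x) O_Y.obj).hom ≫
      (TopCat.Presheaf.stalkFunctor CommRingCat.{u} (φ x)).map α ≫
        TopCat.Presheaf.stalkPushforward CommRingCat.{u} φ O_X.obj x =
      α.app (op V) ≫ TopCat.Presheaf.germ (C := CommRingCat.{u}) O_X.obj ((Opens.map φ).obj V) x hV := by
    have e : (pt φ x).toPresheafFiber V (ptIn hV) O_Y.obj ≫ (InjMod.PointStalk.fiberIso (φ x) O_Y.obj).hom =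
        TopCat.Presheaf.germ (C := CommRingCat.{u}) O_Y.obj V (φ x) hV :=
      (Opens.pointGrothendieckTopology (φ x)).toPresheafFiber_presheafFiberDesc
        (fun U h => TopCat.Presheaf.germ (C := CommRingCat.{u}) O_Y.obj U (φ x) h.down.down)
        (fun {U V} f h => TopCat.Presheaf.germ_res (C := CommRingCat.{u}) O_Y.obj f (φ x) h.down.down) V (ptIn hV)
    rw [reassoc_of% e, TopCat.Presheaf.stalkFunctor_map_germ_assoc]
    exact congrArg (α.app (op V) ≫ ·) (TopCat.Presheaf.stalkPushforward_germ CommRingCat.{u} φ O_X.obj V x hV)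
  exact ConcreteCategory.congr_hom h r

/-- The algebra structure of the stalk. -/
@[reducible] noncomputable def stalkAlgebra (x : X) :
    Algebra (stalkRing (pt φ x) O_Y) (TopCat.Presheaf.stalk (C := CommRingCat.{u}) O_X.obj x) :=
  (stalkHom φ c x).toAlgebra

section Func

variable (M : Mod O_Y) (x : X)

/-- The tensor product of the stalks. -/
abbrev StalkTensor : Type u :=
  letI := stalkAlgebra φ c x
  TopCat.Presheaf.stalk (C := CommRingCat.{u}) O_X.obj x ⊗[stalkRing (pt φ x) O_Y] stalkMod (pt φ x) M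

/-- Formal combinations evaluated in the tensor product of the stalks. -/
noncomputable def evalT {W : Opens X} (hx : x ∈ W) :
    (Gen (mor φ c) M W →₀ O_X.obj.obj (op W)) →+ StalkTensor φ c M x :=
  letI := stalkAlgebra φ c x
  Finsupp.liftAddHom fun G =>
    (((TensorProduct.mk (stalkRing (pt φ x) O_Y) _ _).flip
      (show stalkMod (pt φ x) M from germ (pt φ x) M G.1 (ptIn (G.2.1.le hx)) G.2.2)).toAddMonoidHom).comp
      (TopCat.Presheaf.germ (C := CommRingCat.{u}) O_X.obj W x hx).hom.toAddMonoidHom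

theorem evalT_single {W : Opens X} (hx : x ∈ W) (G : Gen (mor φ c) M W) (r : O_X.obj.obj (op W)) :
    letI := stalkAlgebra φ c x
    evalT φ c M x hx (Finsupp.single G r) =
      (TopCat.Presheaf.germ (C := CommRingCat.{u}) O_X.obj W x hx).hom r ⊗ₜ[stalkRing (pt φ x) O_Y]
        (show stalkMod (pt φ x) M from germ (pt φ x) M G.1 (ptIn (G.2.1.le hx)) G.2.2) :=
  Finsupp.liftAddHom_apply_single _ _ _

theorem evalT_comb {W : Opens X} (hx : x ∈ W) {n : ℕ} (G : Fin n → Gen (mor φ c) M W)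
    (r : Fin n → O_X.obj.obj (op W)) :
    letI := stalkAlgebra φ c x
    evalT φ c M x hx (comb G r) = ∑ i,
      (TopCat.Presheaf.germ (C := CommRingCat.{u}) O_X.obj W x hx).hom (r i) ⊗ₜ[stalkRing (pt φ x) O_Y]
        (show stalkMod (pt φ x) M from germ (pt φ x) M (G i).1 (ptIn ((G i).2.1.le hx)) (G i).2.2) := by
  rw [comb, map_sum]
  exact Finset.sum_congr rfl fun i _ => evalT_single φ c M x hx _ _

theorem evalT_res {W W' : Opens X} (g : W' ⟶ W) (hx : x ∈ W') {n : ℕ} (G : Fin n → Gen (mor φ c) M W)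
    (r : Fin n → O_X.obj.obj (op W)) :
    evalT φ c M x hx (comb (fun i => (G i).res g) (fun i => (O_X.obj.map g.op).hom (r i))) =
      evalT φ c M x (g.le hx) (comb G r) := by
  rw [evalT_comb, evalT_comb]
  refine Finset.sum_congr rfl fun i _ => ?_
  rw [TopCat.Presheaf.germ_res_apply (C := CommRingCat.{u}) O_X.obj g x hx]
  rfl

theorem evalT_null {W : Opens X} (hx : x ∈ W) {n : ℕ} {G : Fin n → Gen (mor φ c) M W}
    {r : Fin n → O_X.obj.obj (op W)} (h : Null G r) : evalT φ c M x hx (comb G r) = 0 := by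
  letI := stalkAlgebra φ c x
  obtain ⟨V', a, k, y, A, hA, hA'⟩ := h
  rw [evalT_comb]
  have hy : φ x ∈ V' := a.le hx
  have hG : ∀ i, (show stalkMod (pt φ x) M from germ (pt φ x) M (G i).1 (ptIn ((G i).2.1.le hx)) (G i).2.2) =
      ∑ j, germRing (pt φ x) V' (ptIn hy) (A i j) •
        (show stalkMod (pt φ x) M from germ (pt φ x) M V' (ptIn hy) (y j)) := fun i => by
    obtain ⟨q, -, hq⟩ := hA i
    refine (germ_rs (p := pt φ x) (x := ptIn ((G i).2.1.le hx)) (g := q) (v := ptIn hy) rfl _).symm.trans ?_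
    rw [hq]
    exact Groth.Agent.ModFlat.germ_sum (ptIn hy) _ _
  simp only [hG, TensorProduct.tmul_sum]
  rw [Finset.sum_comm]
  refine Finset.sum_eq_zero fun j _ => ?_
  have hj : ∀ i, (TopCat.Presheaf.germ (C := CommRingCat.{u}) O_X.obj W x hx).hom (r i) ⊗ₜ[stalkRing (pt φ x) O_Y]
      (germRing (pt φ x) V' (ptIn hy) (A i j) •
        (show stalkMod (pt φ x) M from germ (pt φ x) M V' (ptIn hy) (y j))) =
      (TopCat.Presheaf.germ (C := CommRingCat.{u}) O_X.obj W x hx).hom (r i * pl (mor φ c) a (A i j))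
        ⊗ₜ[stalkRing (pt φ x) O_Y] (show stalkMod (pt φ x) M from germ (pt φ x) M V' (ptIn hy) (y j)) := fun i => by
    rw [← TensorProduct.smul_tmul, map_mul, Algebra.smul_def, mul_comm]
    congr 2
    refine (stalkHom_germ φ c x hy _).trans ?_
    exact (TopCat.Presheaf.germ_res_apply (C := CommRingCat.{u}) O_X.obj a x hx _).symm
  rw [Finset.sum_congr rfl fun i _ => hj i, ← TensorProduct.sum_tmul, ← map_sum, hA' j, map_zero,
    TensorProduct.zero_tmul]

theorem evalT_lnull {W : Opens X} (hx : x ∈ W) {n : ℕ} {G : Fin n → Gen (mor φ c) M W}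
    {r : Fin n → O_X.obj.obj (op W)} (h : LNull G r) : evalT φ c M x hx (comb G r) = 0 := by
  obtain ⟨S, hS, hS'⟩ := h
  obtain ⟨W', g, hg, hxW'⟩ := hS x hx
  rw [← evalT_res φ c M x g hxW']
  exact evalT_null φ c M x hxW' (hS' g hg)

theorem evalT_eq_zero {W : Opens X} (hx : x ∈ W) {n : ℕ} (G : Fin n → Gen (mor φ c) M W)
    (r : Fin n → O_X.obj.obj (op W)) (h : ∑ i, r i • genVal (mor φ c) M (G i) = 0) :
    evalT φ c M x hx (comb G r) = 0 := by
  obtain ⟨S, hS, hS'⟩ := exists_lnull_of_eq_zero G r h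
  obtain ⟨W', g, hg, hxW'⟩ := hS x hx
  obtain ⟨n', G', r', he, hL⟩ := hS' g hg
  rw [← evalT_res φ c M x g hxW', ← he]
  exact evalT_lnull φ c M x hxW' hL

end Func

/-- The inverse image is exact on monomorphisms when the stalk maps are flat. -/
theorem appS_eq_zero (hflat : ∀ x : X, (stalkHom φ c x).Flat) {M N : Mod O_Y} (i : M ⟶ N) [Mono i]
    {W : Opens X} (z : sect ((mor φ c).pull.obj M) W) (hz : appS ((mor φ c).pull.map i) W z = 0) : z = 0 := by
  classical
  let S : Sieve W :=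
    { arrows := fun W' g => rs ((mor φ c).pull.obj M) g z = 0
      downward_closed := fun {W' W''} g hg h => by
        show rs _ (h ≫ g) z = 0
        rw [map_val_comp, hg, map_zero] }
  refine eq_zero_of_locally _ (S := S) ?_ z fun W' g hg => hg
  intro x hx
  obtain ⟨R, hR, hR'⟩ := exists_local_repr (mor φ c) M z
  obtain ⟨W₁, g₁, hg₁, hx₁⟩ := hR x hx
  obtain ⟨n, G, r, hzr⟩ := hR' g₁ hg₁
  letI := stalkAlgebra φ c x
  haveI : Module.Flat (stalkRing (pt φ x) O_Y) (TopCat.Presheaf.stalk (C := CommRingCat.{u}) O_X.obj x) := hflat x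
  let H : Fin n → Gen (mor φ c) N W₁ := fun j => ⟨(G j).1, (G j).2.1, appS i (G j).1 (G j).2.2⟩
  have hH : ∀ j, genVal (mor φ c) N (H j) = appS ((mor φ c).pull.map i) W₁ (genVal (mor φ c) M (G j)) := fun j => by
    rw [genVal, genVal, appS_res]
    refine congrArg (rs ((mor φ c).pull.obj N) (G j).2.1) ?_
    exact congrArg (fun t : M ⟶ (mor φ c).push.obj ((mor φ c).pull.obj N) => t.val.app (op (G j).1) (G j).2.2)
      ((mor φ c).adj.unit.naturality i)
  have h0 : ∑ j, r j • genVal (mor φ c) N (H j) = 0 := by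
    rw [Finset.sum_congr rfl fun j _ => (congrArg (r j • ·) (hH j)).trans (map_smul _ _ _).symm, ← map_sum,
      ← hzr, appS_res, hz, map_zero]
  have h1 := evalT_eq_zero φ c N x hx₁ H r h0
  rw [evalT_comb] at h1
  obtain ⟨l, κ, d, hκ, hd⟩ := exists_relations (R := stalkRing (pt φ x) O_Y) _ _ h1
  -- an open of the target refining everything
  have hV : ∀ j, φ x ∈ (G j).1 := fun j => (G j).2.1.le hx₁
  let V₀ : Opens Y := ⟨⋂ j, ((G j).1 : Set Y), isOpen_iInter_of_finite fun j => (G j).1.2⟩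
  have hV₀ : φ x ∈ V₀ := Set.mem_iInter.2 hV
  let q₀ : ∀ j, V₀ ⟶ (G j).1 := fun j => homOfLE fun y hy => Set.mem_iInter.1 hy j
  obtain ⟨V₁, p₁, hV₁, -, hκ'⟩ := Groth.Agent.ModFlat.exists_forall (p := pt φ x) (ptIn hV₀)
    (fun k ⦃V⦄ (_ : V ⟶ V₀) v => ∀ j, ∃ s, germRing (O := O_Y) (pt φ x) V v s = κ k j)
    (fun k V W g v h w hw hs j => let ⟨s, hs⟩ := hs j; ⟨_, (germRing_res hw s).trans hs⟩)
    (fun k => Groth.Agent.ModFlat.exists_forall (p := pt φ x) (ptIn hV₀)
      (fun j ⦃V⦄ (_ : V ⟶ V₀) v => ∃ s, germRing (O := O_Y) (pt φ x) V v s = κ k j)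
      (fun j V W g v h w hw ⟨s, hs⟩ => ⟨_, (germRing_res hw s).trans hs⟩)
      (fun j => Groth.Agent.ModFlat.exists_germRing (ptIn hV₀) (κ k j)))
  choose s hs using hκ'
  have hxV₁ : φ x ∈ V₁ := Groth.Agent.LocPres.mem_of_fiber hV₁
  let m : Fin n → sect M V₁ := fun j => rs M (p₁ ≫ q₀ j) (G j).2.2
  -- the relations hold near the point
  have h2 : ∀ k, germ (pt φ x) N V₁ (ptIn hxV₁) (∑ j, s k j • appS i V₁ (m j)) =
      germ (pt φ x) N V₁ (ptIn hxV₁) 0 := fun k => by
    rw [Groth.Agent.ModFlat.germ_sum]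
    refine Eq.trans (Eq.trans (Finset.sum_congr rfl fun j _ => ?_) (hκ k))
      (map_zero ((pt φ x).toPresheafFiber V₁ (ptIn hxV₁) (toAb N).obj).hom).symm
    rw [appS_res]
    exact congrArg₂ (· • ·) (hs k j) (germ_rs (p := pt φ x) rfl _)
  obtain ⟨V₂, p₂, hV₂, hrel⟩ := Groth.Agent.LocPres.exists_eq_nhd hxV₁
    (fun k => ∑ j, s k j • appS i V₁ (m j)) (fun _ => 0) h2
  let m₂ : Fin n → sect M V₂ := fun j => rs M (p₂ ≫ p₁ ≫ q₀ j) (G j).2.2
  have hrel₂ : ∀ k, ∑ j, (O_Y.obj.map p₂.op).hom (s k j) • m₂ j = 0 := fun k => by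
    have h3 := hrel k
    simp only [map_sum, map_zero, map_val_smul, ← appS_res, m, ← map_val_comp] at h3
    refine appS_injective i V₂ ?_
    rw [map_sum, map_zero]
    simp only [map_smul]
    exact h3
  -- functions on the source
  obtain ⟨W₂, g₂, hx₂, hd'⟩ : ∃ (W₂ : Opens X) (g₂ : W₂ ⟶ W₁), x ∈ W₂ ∧ ∃ (hW₂ : W₂ ≤ (Opens.map φ).obj V₂)
      (dd : Fin l → O_X.obj.obj (op W₂)), ∀ j, (O_X.obj.map g₂.op).hom (r j) =
        ∑ k, dd k * pl (mor φ c) (homOfLE hW₂) ((O_Y.obj.map p₂.op).hom (s k j)) := by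
    let Z : Fin l → Opens X := fun k => (TopCat.Presheaf.exists_germ_eq (C := CommRingCat.{u}) O_X.obj (d k)).choose
    have hZ := fun k => (TopCat.Presheaf.exists_germ_eq (C := CommRingCat.{u}) O_X.obj (d k)).choose_spec
    choose hxZ dd hdd using hZ
    let W' : Opens X := W₁ ⊓ (Opens.map φ).obj V₂ ⊓ ⟨⋂ k, (Z k : Set X), isOpen_iInter_of_finite fun k => (Z k).2⟩
    have hx' : x ∈ W' := ⟨⟨hx₁, hV₂⟩, Set.mem_iInter.2 hxZ⟩
    let gW : W' ⟶ W₁ := homOfLE (inf_le_left.trans inf_le_left)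
    let gV : W' ⟶ (Opens.map φ).obj V₂ := homOfLE (inf_le_left.trans inf_le_right)
    let gZ : ∀ k, W' ⟶ Z k := fun k => homOfLE fun y hy => Set.mem_iInter.1 hy.2 k
    have he : ∀ j, (TopCat.Presheaf.germ (C := CommRingCat.{u}) O_X.obj W' x hx').hom ((O_X.obj.map gW.op).hom (r j)) =
        (TopCat.Presheaf.germ (C := CommRingCat.{u}) O_X.obj W' x hx').hom
          (∑ k, (O_X.obj.map (gZ k).op).hom (dd k) * pl (mor φ c) gV ((O_Y.obj.map p₂.op).hom (s k j))) := fun j => by
      rw [map_sum, TopCat.Presheaf.germ_res_apply (C := CommRingCat.{u}) O_X.obj gW x hx', hd j]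
      refine Finset.sum_congr rfl fun k _ => ?_
      rw [map_mul, TopCat.Presheaf.germ_res_apply (C := CommRingCat.{u}) O_X.obj (gZ k) x hx', hdd k]
      congr 1
      rw [← hs k j, ← germRing_res (p := pt φ x) (x := hV₁) (g := p₂) (v := ptIn hV₂) rfl (s k j)]
      refine (stalkHom_germ φ c x hV₂ _).trans ?_
      exact (TopCat.Presheaf.germ_res_apply (C := CommRingCat.{u}) O_X.obj gV x hx' _).symm
    choose Wj hxj ij ij' hj using fun j => TopCat.Presheaf.germ_eq (C := CommRingCat.{u}) O_X.obj x hx' hx' _ _ (he j)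
    let W₂ : Opens X := W' ⊓ ⟨⋂ j, (Wj j : Set X), isOpen_iInter_of_finite fun j => (Wj j).2⟩
    let g' : W₂ ⟶ W' := homOfLE inf_le_left
    refine ⟨W₂, g' ≫ gW, ⟨hx', Set.mem_iInter.2 hxj⟩, (inf_le_left.trans gV.le),
      fun k => (O_X.obj.map (g' ≫ gZ k).op).hom (dd k), fun j => ?_⟩
    let gj : W₂ ⟶ Wj j := homOfLE fun y hy => Set.mem_iInter.1 hy.2 j
    have h4 := congrArg (O_X.obj.map gj.op).hom (hj j)
    refine Eq.trans ?_ ((map_ring_comp (O := O_X) gj (ij j) _).trans (h4.trans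
      ((map_ring_comp (O := O_X) gj (ij' j) _).symm.trans ((congrArg (fun a : W₂ ⟶ W' => (O_X.obj.map a.op).hom _)
        (Subsingleton.elim (gj ≫ ij' j) g')).trans ((map_sum _ _ _).trans (Finset.sum_congr rfl fun k _ => ?_))))))
    · rw [Subsingleton.elim (gj ≫ ij j) g']
      exact map_ring_comp (O := O_X) g' gW _
    rw [map_mul, ← map_ring_comp, pl_res]
    rfl
  obtain ⟨hW₂, dd, hdd⟩ := hd'
  refine ⟨W₂, g₂ ≫ g₁, ?_, hx₂⟩
  show rs _ (g₂ ≫ g₁) z = 0
  rw [map_val_comp, hzr, map_sum]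
  have hG : ∀ j, rs ((mor φ c).pull.obj M) g₂ (genVal (mor φ c) M (G j)) =
      genVal (mor φ c) M ⟨V₂, homOfLE hW₂, m₂ j⟩ := fun j => by
    rw [← genVal_res, ← genVal_map (f := mor φ c) (M := M) (homOfLE hW₂) (p₂ ≫ p₁ ≫ q₀ j) (G j).2.2]
    exact congrArg (genVal (mor φ c) M) (congrArg (fun a => (⟨(G j).1, a, (G j).2.2⟩ : Gen (mor φ c) M W₂))
      (Subsingleton.elim _ _))
  simp only [map_val_smul, hG, hdd, Finset.sum_smul, mul_smul]
  rw [Finset.sum_comm]
  refine Finset.sum_eq_zero fun k _ => ?_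
  rw [← Finset.smul_sum, ← genVal_sum, hrel₂ k]
  refine smul_eq_zero_of_right _ ?_
  show rs ((mor φ c).pull.obj M) (homOfLE hW₂) (etaS (mor φ c) M V₂ 0) = 0
  rw [show etaS (mor φ c) M V₂ 0 = 0 from map_zero (((mor φ c).adj.unit.app M).val.app (op V₂)).hom]
  exact map_zero _

/-- Flat stalk maps give a flat morphism of ringed spaces. -/
theorem isFlat_of_stalkHom (hflat : ∀ x : X, (stalkHom φ c x).Flat) : (mor φ c).IsFlat := by
  haveI : (mor φ c).pull.IsLeftAdjoint := (mor φ c).adj.isLeftAdjoint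
  haveI : (mor φ c).pull.PreservesMonomorphisms := ⟨fun {M N} i _ =>
    mono_of_appS_injective _ fun U z hz => appS_eq_zero φ c hflat i z hz⟩
  haveI : PreservesFiniteColimits (mor φ c).pull :=
    PreservesColimitsOfSize.preservesFiniteColimits _
  haveI : (mor φ c).pull.PreservesHomology :=
    Functor.preservesHomology_of_preservesMonos_and_cokernels _
  exact Functor.preservesFiniteLimits_of_preservesHomology _

end Groth.Agent.PullFlatStalk
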